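import Groth.Agent.H4.Biext.LocalSplit
import Mathlib.CategoryTheory.Sites.LocallySurjective
import Mathlib.CategoryTheory.Sites.EpiMono

/-!
# `𝓔xt¹` out of a locally free sheaf of finite rank vanishes
-/

set_option autoImplicit false
universe u

open CategoryTheory CategoryTheory.Limits Opposite
open Groth.Agent.H4.BiextFibre Groth.Agent.H4.BiextExtn Groth.Agent.H4.BiextLocal

namespace Groth.Agent.Lib.LocFreeExt

variable {C : Type (u + 1)} [Category.{u} C] (J : GrothendieckTopology C)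
  (F : Sheaf J AddCommGrpCat.{u + 1})

/-- A family of sections which is locally a basis on everything above `T`. -/
def IsBasis {T : C} {r : ℕ} (s : Fin r → F.obj.obj (op T)) : Prop :=
  (∀ ⦃T'' : C⦄ (f : T'' ⟶ T) (q : F.obj.obj (op T'')), ∃ R ∈ J T'', ∀ ⦃T₁ : C⦄ (h : T₁ ⟶ T''),
      R h → ∃ n : Fin r → ℤ, F.obj.map h.op q = ∑ k, n k • F.obj.map (h ≫ f).op (s k)) ∧
    ∀ ⦃T'' : C⦄ (f : T'' ⟶ T) (n : Fin r → ℤ),
      ∑ k, n k • F.obj.map f.op (s k) = 0 → n ≠ 0 → ⊥ ∈ J T''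

/-- `F` is locally free of finite rank. -/
def LocFree : Prop :=
  ∀ T : C, ∃ R ∈ J T, ∀ ⦃T' : C⦄ (g : T' ⟶ T), R g → ∃ (r : ℕ) (s : Fin r → F.obj.obj (op T')),
    IsBasis J F s

variable {J F}

theorem IsBasis.restr {T T' : C} (g : T' ⟶ T) {r : ℕ} {s : Fin r → F.obj.obj (op T)}
    (hs : IsBasis J F s) : IsBasis J F (fun k => F.obj.map g.op (s k)) := by
  refine ⟨fun T'' f q => ?_, fun T'' f n hn hne => hs.2 (f ≫ g) n ?_ hne⟩
  · obtain ⟨R, hR, h⟩ := hs.1 (f ≫ g) q
    refine ⟨R, hR, fun T₁ k hk => ?_⟩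
    obtain ⟨n, hn⟩ := h k hk
    refine ⟨n, hn.trans (Finset.sum_congr rfl fun i _ => ?_)⟩
    rw [← mapAb_comp_apply, Category.assoc]
  · simpa only [mapAb_comp_apply] using hn

theorem finset_inf_mem {T : C} {ι : Type} (t : Finset ι) (R : ι → Sieve T) (hR : ∀ i, R i ∈ J T) :
    t.inf R ∈ J T := by
  classical
  induction t using Finset.induction with
  | empty => simp
  | insert a t ha ih => simpa using J.intersection_covering (hR a) ih

/-- Morphisms out of a free sheaf: prescribe values on a basis. -/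
theorem exists_hom {T : C} {r : ℕ} {s : Fin r → F.obj.obj (op T)} (hs : IsBasis J F s)
    (M : Sheaf J AddCommGrpCat.{u + 1}) (m : Fin r → M.obj.obj (op T)) :
    ∃ a : F.over T ⟶ M.over T, ∀ ⦃T' : C⦄ (f : T' ⟶ T) (n : Fin r → ℤ),
      a.hom.app (op (Over.mk f)) (∑ k, n k • F.obj.map f.op (s k)) =
        ∑ k, n k • M.obj.map f.op (m k) := by
  obtain ⟨a, ha⟩ := descend (Q := F) M (fun T' _ => ULift.{u + 1} (Fin r → ℤ))
    (fun T' f n => ∑ k, n.down k • F.obj.map f.op (s k)) (fun T' T'' g f n => n)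
    (fun T' T'' g f n => by simp [map_sum, map_zsmul, mapAb_comp_apply])
    (fun T' f n => ∑ k, n.down k • M.obj.map f.op (m k))
    (fun T' T'' g f n => by simp [map_sum, map_zsmul, mapAb_comp_apply])
    (fun T' f x y hxy => by
      by_cases h : x.down - y.down = 0
      · rw [sub_eq_zero.1 h]
      · refine sepAb (hs.2 f (x.down - y.down) ?_ h) fun T'' g hg => hg.elim
        simp only [Pi.sub_apply, sub_smul, Finset.sum_sub_distrib]
        exact sub_eq_zero.2 hxy)
    (fun T' f x y => ⟨⟨x.down + y.down⟩, by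
      simp only [Pi.add_apply, add_smul, Finset.sum_add_distrib, and_self]⟩)
    (fun T' f q => by
      obtain ⟨R, hR, h⟩ := hs.1 f q
      refine ⟨R, hR, fun T'' g hg => ?_⟩
      obtain ⟨n, hn⟩ := h g hg
      exact ⟨⟨n⟩, hn.symm⟩)
  exact ⟨a, fun T' f n => ha f ⟨n⟩⟩

theorem natOver {M : Sheaf J AddCommGrpCat.{u + 1}} {T : C} (φ : F.over T ⟶ M.over T) {T' T'' : C}
    (h : T'' ⟶ T') (f : T' ⟶ T) (x : F.obj.obj (op T')) :
    φ.hom.app (op (Over.mk (h ≫ f))) (F.obj.map h.op x) =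
      M.obj.map h.op (φ.hom.app (op (Over.mk f)) x) :=
  NatTrans.naturality_apply φ.hom (Over.homMk h : Over.mk (h ≫ f) ⟶ Over.mk f).op x

section

variable [HasSheafify J AddCommGrpCat.{u + 1}]

/-- Exactness gives local lifts of sections. -/
theorem imageSieve_mem_of_exact (S : ShortComplex (Sheaf J AddCommGrpCat.{u + 1})) (hS : S.Exact)
    [J.HasSheafCompose (forget AddCommGrpCat.{u + 1})]
    {T : C} (x : S.X₂.obj.obj (op T)) (hx : S.g.hom.app (op T) x = 0) :
    Presheaf.imageSieve S.f.hom x ∈ J T := by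
  obtain ⟨z, hz⟩ := exists_section_lift S.iCycles S.g S.iCycles_g S.cyclesIsKernel T x hx
  have : Epi S.toCycles := S.exact_iff_epi_toCycles.1 hS
  have hls : Sheaf.IsLocallySurjective S.toCycles :=
    (Sheaf.isLocallySurjective_iff_epi' _ _).2 inferInstance
  refine J.superset_covering (fun T' g hg => ?_) (Presheaf.imageSieve_mem J S.toCycles.hom z)
  obtain ⟨b, hb⟩ := hg
  refine ⟨b, ?_⟩
  have e := congrArg (fun m : S.X₁ ⟶ S.X₂ => m.hom.app (op T') b) S.toCycles_i
  refine e.symm.trans ?_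
  change S.iCycles.hom.app (op T') (S.toCycles.hom.app (op T') b) = _
  rw [hb, natAb, hz]

/-- Local lifts of sections give exactness. -/
theorem exact_of_imageSieve_mem (S : ShortComplex (Sheaf J AddCommGrpCat.{u + 1}))
    [J.HasSheafCompose (forget AddCommGrpCat.{u + 1})]
    (h : ∀ (T : C) (x : S.X₂.obj.obj (op T)), S.g.hom.app (op T) x = 0 →
      Presheaf.imageSieve S.f.hom x ∈ J T) : S.Exact := by
  rw [S.exact_iff_epi_toCycles, ← Sheaf.isLocallySurjective_iff_epi']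
  refine ⟨fun {T} z => ?_⟩
  refine J.superset_covering (fun T' g hg => ?_) (h T (S.iCycles.hom.app (op T) z)
    (congrArg (fun m : S.cycles ⟶ S.X₃ => m.hom.app (op T) z) S.iCycles_g))
  obtain ⟨b, hb⟩ := hg
  refine ⟨b, injective_app S.iCycles T' ?_⟩
  rw [← natAb] at hb
  refine Eq.trans ?_ hb
  exact congrArg (fun m : S.X₁ ⟶ S.X₂ => m.hom.app (op T') b) S.toCycles_i

variable [J.HasSheafCompose (forget AddCommGrpCat.{u + 1})]

/-- `𝓗om(F, -)` preserves exact sequences for `F` locally free. -/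
theorem homSh_exact (hF : LocFree J F) (S : ShortComplex (Sheaf J AddCommGrpCat.{u + 1}))
    (hS : S.Exact) : (S.map (HomSh.homShFunctor J F)).Exact := by
  refine exact_of_imageSieve_mem _ fun T φ hφ => ?_
  obtain ⟨R, hR, hR'⟩ := hF T
  refine J.transitive hR _ fun T' g hg => ?_
  obtain ⟨r, s, hs⟩ := hR' g hg
  let φ0 : F.over T ⟶ S.X₂.over T := φ
  have hφ' : φ0 ≫ (J.overPullback _ T).map S.g = 0 :=
    ((congrArg (· ≫ _) ((J.overPullback _ T).map_id _)).trans (Category.id_comp _)).symm.trans hφ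
  let k : Fin r → S.X₂.obj.obj (op T') := fun i => φ0.hom.app (op (Over.mk g)) (s i)
  have hk : ∀ i, S.g.hom.app (op T') (k i) = 0 := fun i =>
    congrArg (fun m : F.over T ⟶ S.X₃.over T => m.hom.app (op (Over.mk g)) (s i)) hφ'
  refine J.superset_covering (fun T'' h hh => ?_)
    (finset_inf_mem Finset.univ (fun i => Presheaf.imageSieve S.f.hom (k i))
      fun i => imageSieve_mem_of_exact S hS (k i) (hk i))
  have hh' : ∀ i, Presheaf.imageSieve S.f.hom (k i) h := fun i =>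
    (Finset.inf_le (Finset.mem_univ i) :
      Finset.univ.inf (fun i => Presheaf.imageSieve S.f.hom (k i)) ≤ _) _ hh
  choose b hb using hh'
  obtain ⟨a, ha⟩ := exists_hom (hs.restr h) S.X₁ b
  change Presheaf.imageSieve (S.map (HomSh.homShFunctor J F)).f.hom φ (h ≫ g)
  refine ⟨a, ?_⟩
  refine ((congrArg (· ≫ _) ((J.overPullback _ T'').map_id _)).trans (Category.id_comp _)).trans ?_
  refine hom_ext_cov _ _ fun W f q => ?_
  obtain ⟨R₂, hR₂, h₂⟩ := (hs.restr h).1 f q
  refine ⟨R₂, hR₂, fun W₂ p hp => ?_⟩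
  obtain ⟨n, hn⟩ := h₂ p hp
  rw [hn]
  change S.f.hom.app (op W₂) (a.hom.app (op (Over.mk (p ≫ f))) _) =
    φ0.hom.app (op (Over.mk ((p ≫ f) ≫ h ≫ g))) _
  refine (congrArg (S.f.hom.app (op W₂)) (ha (p ≫ f) n)).trans ?_
  rw [map_sum]
  refine Eq.trans ?_ (map_sum (φ0.hom.app (op (Over.mk ((p ≫ f) ≫ h ≫ g)))).hom _ _).symm
  refine Finset.sum_congr rfl fun i _ => ?_
  refine Eq.trans ?_ (map_zsmul (φ0.hom.app (op (Over.mk ((p ≫ f) ≫ h ≫ g)))).hom (n i) _).symm
  rw [map_zsmul, natAb, hb i, ← mapAb_comp_apply]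
  refine congrArg (n i • ·) ?_
  refine Eq.trans ?_ (HomSh.app_over_mk_congr J φ0 (Category.assoc (p ≫ f) h g) _)
  refine Eq.trans ?_ (congrArg (φ0.hom.app (op (Over.mk (((p ≫ f) ≫ h) ≫ g))))
    (mapAb_comp_apply (p ≫ f) h (s i)))
  exact (natOver φ0 ((p ≫ f) ≫ h) g (s i)).symm

theorem isZero_extSh_one [HasInjectiveResolutions (Sheaf J AddCommGrpCat.{u + 1})]
    (hF : LocFree J F) (M : Sheaf J AddCommGrpCat.{u + 1}) :
    IsZero ((HomSh.extSh J F 1).obj M) := by
  rw [HomSh.extSh_def]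
  let I := injectiveResolution M
  refine IsZero.of_iso ?_ (I.isoRightDerivedObj (HomSh.homShFunctor J F) 1)
  refine HomologicalComplex.ExactAt.isZero_homology ?_
  rw [HomologicalComplex.exactAt_iff' _ 0 1 2 (by simp) (by simp)]
  have hex : (I.cocomplex.sc' 0 1 2).Exact :=
    (HomologicalComplex.exactAt_iff' _ 0 1 2 (by simp) (by simp)).1 (I.cocomplex_exactAt_succ 0)
  exact homSh_exact hF _ hex

end

end Groth.Agent.Lib.LocFreeExt
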